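import Cfsg.Agent.Lib.G24.Field
import Cfsg.Agent.Lib.CosetEnum.U62.Data
import Cfsg.Prelude.Def_Classical

/-! The action of the six-dimensional unitary group over the field of four elements on the 693
isotropic points, and its transvections. -/

set_option autoImplicit false
set_option maxRecDepth 20000
set_option Elab.async false

namespace Cfsg.Agent.Lib.CosetEnum.U62

open Cfsg.Agent.Lib.CosetEnum Cfsg.Agent.Lib.G24

/-- The number of a field element. -/
def enc : K4 → ℕ
  | .z => 0 | .e => 1 | .w => 2 | .v => 3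

/-- The field element with a given number. -/
def dec : ℕ → K4
  | 1 => .e | 2 => .w | 3 => .v | _ => .z

/-- The vector with a given number. -/
def vec (i : ℕ) : Fin 6 → K4 := fun k => dec (i / 4 ^ k.1 % 4)

/-- The number of a vector. -/
def code (v : Fin 6 → K4) : ℕ :=
  enc (v 0) + 4 * enc (v 1) + 16 * enc (v 2) + 64 * enc (v 3) + 256 * enc (v 4) + 1024 * enc (v 5)

theorem code_lt (v : Fin 6 → K4) : code v < 4096 := by
  have h : ∀ x : K4, enc x < 4 := by intro x; cases x <;> decide
  have h0 := h (v 0)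
  have h1 := h (v 1)
  have h2 := h (v 2)
  have h3 := h (v 3)
  have h4 := h (v 4)
  have h5 := h (v 5)
  unfold code
  omega

theorem vec_code (v : Fin 6 → K4) : vec (code v) = v := by
  have h : ∀ x : K4, enc x < 4 := by intro x; cases x <;> decide
  have hd : ∀ x : K4, dec (enc x) = x := by intro x; cases x <;> rfl
  have h0 := h (v 0)
  have h1 := h (v 1)
  have h2 := h (v 2)
  have h3 := h (v 3)
  have h4 := h (v 4)
  have h5 := h (v 5)
  have key : ∀ k : Fin 6, code v / 4 ^ k.1 % 4 = enc (v k) := by
    simp only [Fin.forall_fin_succ, Fin.forall_fin_zero_pi, IsEmpty.forall_iff, and_true, code,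
      Fin.val_succ, Fin.val_zero, Fin.succ_zero_eq_one, Fin.succ_one_eq_two]
    norm_num
    refine ⟨?_, ?_, ?_, ?_, ?_, ?_⟩ <;> first | omega | (simp [Fin.succ]; omega)
  funext k
  rw [vec, key k, hd]

/-- The form. -/
abbrev herm (u v : Fin 6 → K4) : K4 := Cfsg.hermForm 6 K4 2 u v

/-- The vector representing a point. -/
noncomputable def pv (i : ℕ) : Fin 6 → K4 := vec (get32 pointCode i)

/-- The point of a vector. -/
noncomputable def ptV (v : Fin 6 → K4) : ℕ := force (code v) (get32 ptOf)

/-- An entry of a numbered vector. -/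
noncomputable def dig (n k : ℕ) : K4 := dec (n / 4 ^ k % 4)

/-- The norm of a numbered vector. -/
noncomputable def normN (n : ℕ) : K4 :=
  let f := fun k => dig n k * (dig n k * dig n k)
  f 0 + f 1 + f 2 + f 3 + f 4 + f 5

/-- Isotropic vectors are multiples of the representatives of their points. -/
noncomputable def coverN (n : ℕ) : Bool :=
  Nat.beq n 0 || decide (normN n ≠ 0) || force (get32 ptOf n) fun i => force (get32 scalOf n) fun s =>
    force (get32 pointCode i) fun p => Nat.blt i 693 && !(decide (dec s = 0)) &&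
      allBelow 6 fun k => decide (dec s * dig p k = dig n k)

theorem cover_part0 : allFrom 0 1400 coverN = true := by decide +kernel

theorem cover_part1 : allFrom 1400 1400 coverN = true := by decide +kernel

theorem cover_part2 : allFrom 2800 1296 coverN = true := by decide +kernel

theorem cover_ok : allBelow 4096 coverN = true :=
  allBelow_add (allBelow_add (allBelow_add (rfl : allBelow 0 coverN = true) cover_part0
    (rfl : 0 + 1400 = 1400)) cover_part1 (rfl : 1400 + 1400 = 2800)) cover_part2
    (rfl : 2800 + 1296 = 4096)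

theorem normN_eq (n : ℕ) : normN n = herm (vec n) (vec n) := by
  simp [herm, Cfsg.hermForm, normN, dig, vec, Fin.sum_univ_six, sq]

theorem cover (v : Fin 6 → K4) (hv : v ≠ 0) (h : herm v v = 0) :
    ptV v < 693 ∧ ∃ c : K4, c ≠ 0 ∧ c • pv (ptV v) = v := by
  have hc := allBelow_iff.1 cover_ok _ (code_lt v)
  have hn : code v ≠ 0 := by
    intro h0
    apply hv
    rw [← vec_code v, h0]
    funext k
    simp [vec, dec]
    rfl
  simp only [coverN, force_eq, Bool.or_eq_true, Bool.and_eq_true, Nat.beq_eq, Nat.blt_eq,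
    decide_eq_true_eq, normN_eq, vec_code, h, hn, ne_eq, not_true_eq_false, false_or,
    Bool.not_eq_true', decide_eq_false_iff_not] at hc
  obtain ⟨⟨hlt, hne⟩, hk⟩ := hc
  simp only [ptV, force_eq]
  refine ⟨hlt, _, hne, ?_⟩
  funext k
  have := of_decide_eq_true (allBelow_iff.1 hk k.1 k.2)
  conv_rhs => rw [← vec_code v]
  exact this

/-- Multiples of representatives lie at their points. -/
noncomputable def multAt (i : ℕ) : Bool :=
  decide (herm (pv i) (pv i) = 0) && allBelow 4 fun c => decide (dec c = 0) ||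
    Nat.beq (ptV (dec c • pv i)) i

theorem mult_ok : allBelow 693 multAt = true := by decide +kernel

theorem pv_iso (i : Fin 693) : herm (pv i.1) (pv i.1) = 0 := by
  have h := allBelow_iff.1 mult_ok i.1 i.2
  simp only [multAt, Bool.and_eq_true, decide_eq_true_eq] at h
  exact h.1

theorem ptV_smul (i : Fin 693) (c : K4) (hc : c ≠ 0) : ptV (c • pv i.1) = i.1 := by
  have h := allBelow_iff.1 mult_ok i.1 i.2
  simp only [multAt, Bool.and_eq_true] at h
  have hd : dec (enc c) = c := by cases c <;> rfl
  have h' := allBelow_iff.1 h.2 (enc c) (by cases c <;> decide)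
  simp only [hd, Bool.or_eq_true, decide_eq_true_eq, Nat.beq_eq, hc, false_or] at h'
  exact h'

theorem pv_ne (i : Fin 693) : pv i.1 ≠ 0 := by
  intro h
  have h1 := ptV_smul i 1 one_ne_zero
  have h2 := ptV_smul i K4.w (by decide)
  have h3 : (pv i.1) = 0 := h
  have h4 : allBelow 693 (fun i => !(Nat.beq (get32 pointCode i) 0) &&
      Nat.blt (get32 pointCode i) 4096) = true := by decide +kernel
  have h5 := allBelow_iff.1 h4 i.1 i.2
  simp only [Bool.and_eq_true, Bool.not_eq_true', Nat.blt_eq] at h5
  have hinj : ∀ n < 4096, code (vec n) = n := by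
    intro n hn
    have hd : ∀ m < 4, enc (dec m) = m := by decide
    simp only [code, vec]
    rw [hd _ (Nat.mod_lt _ (by norm_num)), hd _ (Nat.mod_lt _ (by norm_num)),
      hd _ (Nat.mod_lt _ (by norm_num)), hd _ (Nat.mod_lt _ (by norm_num)),
      hd _ (Nat.mod_lt _ (by norm_num)), hd _ (Nat.mod_lt _ (by norm_num))]
    norm_num
    omega
  have h6 := hinj _ h5.2
  rw [show vec (get32 pointCode i.1) = 0 from h3] at h6
  have h7 := h5.1
  rw [← h6] at h7
  exact absurd h7 (by decide)

/-- The special unitary group. -/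
abbrev SU6 : Type := Cfsg.SU 6 K4 2

/-- The matrix of an element. -/
abbrev matOf (A : SU6) : Matrix (Fin 6) (Fin 6) K4 := A.1.1

theorem herm_map (A : SU6) (u w : Fin 6 → K4) :
    herm (Matrix.mulVec (matOf A) u) (Matrix.mulVec (matOf A) w) = herm u w := A.2 u w

theorem image_ne (A : SU6) (i : Fin 693) : Matrix.mulVec (matOf A) (pv i.1) ≠ 0 := by
  intro h
  apply pv_ne i
  have := congrArg (Matrix.mulVec (matOf A⁻¹)) h
  rw [Matrix.mulVec_mulVec, matOf, matOf, ← Matrix.SpecialLinearGroup.coe_mul, ← Subgroup.coe_mul,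
    inv_mul_cancel, Subgroup.coe_one, Matrix.SpecialLinearGroup.coe_one, Matrix.one_mulVec,
    Matrix.mulVec_zero] at this
  exact this

theorem image_cover (A : SU6) (i : Fin 693) :
    ptV (Matrix.mulVec (matOf A) (pv i.1)) < 693 ∧
      ∃ c : K4, c ≠ 0 ∧ c • pv (ptV (Matrix.mulVec (matOf A) (pv i.1))) =
        Matrix.mulVec (matOf A) (pv i.1) :=
  cover _ (image_ne A i) (by rw [herm_map, pv_iso])

/-- The point onto which an element maps a point. -/
noncomputable def act (A : SU6) (i : Fin 693) : Fin 693 :=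
  ⟨ptV (Matrix.mulVec (matOf A) (pv i.1)), (image_cover A i).1⟩

theorem act_one (i : Fin 693) : act 1 i = i := by
  apply Fin.ext
  have h := ptV_smul i 1 one_ne_zero
  rw [one_smul] at h
  simpa [act, matOf] using h

theorem act_eq (A : SU6) (i j : Fin 693) (c : K4) (hc : c ≠ 0)
    (h : c • pv j.1 = Matrix.mulVec (matOf A) (pv i.1)) : act A i = j :=
  Fin.ext (by rw [act]; simp only [← h]; exact ptV_smul j c hc)

theorem act_mul (A B : SU6) (i : Fin 693) : act (A * B) i = act A (act B i) := by
  obtain ⟨-, c, hc, hc'⟩ := image_cover B i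
  obtain ⟨-, d, hd, hd'⟩ := image_cover A (act B i)
  refine act_eq _ _ _ (c * d) (mul_ne_zero hc hd) ?_
  change (c * d) • pv (ptV (Matrix.mulVec (matOf A) (pv (act B i).1))) = _
  rw [mul_smul, hd', ← Matrix.mulVec_smul, show (c • pv (act B i).1) =
    Matrix.mulVec (matOf B) (pv i.1) from hc', Matrix.mulVec_mulVec, matOf, matOf, matOf,
    Subgroup.coe_mul, Matrix.SpecialLinearGroup.coe_mul]

/-- The action on the isotropic points. -/
noncomputable def σ : SU6 →* Equiv.Perm (Fin 693) where
  toFun A :=
    { toFun := act A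
      invFun := act A⁻¹
      left_inv := fun i => by rw [← act_mul, inv_mul_cancel, act_one]
      right_inv := fun i => by rw [← act_mul, mul_inv_cancel, act_one] }
  map_one' := Equiv.ext act_one
  map_mul' A B := Equiv.ext (act_mul A B)

theorem K4_four : ∀ x : K4, x ^ 2 * x ^ 2 = x ∧ x + x = 0 ∧ (x ^ 2) * x ^ 2 = x := by decide +kernel

theorem herm_swap (u v : Fin 6 → K4) : herm u v = herm v u ^ 2 := by
  have h2 : ∀ x y : K4, (x + y) ^ 2 = x ^ 2 + y ^ 2 := by decide +kernel
  have h3 : ∀ x y : K4, x * y ^ 2 = (y * x ^ 2) ^ 2 := by decide +kernel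
  simp only [herm, Cfsg.hermForm, Fin.sum_univ_six, h2, ← h3]

/-- The matrix of a transvection. -/
noncomputable def tMat (v : Fin 6 → K4) : Matrix (Fin 6) (Fin 6) K4 :=
  1 + Matrix.replicateCol (Fin 1) v * Matrix.replicateRow (Fin 1) (fun k => v k ^ 2)

theorem tMat_mulVec (v x : Fin 6 → K4) : Matrix.mulVec (tMat v) x = x + herm x v • v := by
  rw [tMat, Matrix.add_mulVec, Matrix.one_mulVec]
  congr 1
  funext r
  simp [Matrix.mulVec, dotProduct, Matrix.mul_apply, herm, Cfsg.hermForm, Fin.sum_univ_six]
  ring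

/-- The transvection at an isotropic vector. -/
noncomputable def trans (v : Fin 6 → K4) (h : herm v v = 0) : SU6 :=
  ⟨⟨tMat v, by
    have h' : (fun k => v k ^ 2) ⬝ᵥ v = herm v v := by
      simp [dotProduct, herm, Cfsg.hermForm, mul_comm]
    refine (Matrix.det_one_add_replicateCol_mul_replicateRow (ι := Fin 1) v _).trans ?_
    rw [h', h, add_zero]⟩, by
    intro u w
    change herm (Matrix.mulVec (tMat v) u) (Matrix.mulVec (tMat v) w) = herm u w
    rw [tMat_mulVec, tMat_mulVec]
    have h2 : ∀ x y : K4, (x + y) ^ 2 = x ^ 2 + y ^ 2 := by decide +kernel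
    have hexp : herm (u + herm u v • v) (w + herm w v • v) =
        herm u w + herm w v ^ 2 * herm u v + herm u v * herm v w +
          herm u v * herm w v ^ 2 * herm v v := by
      simp only [herm, Cfsg.hermForm, Fin.sum_univ_six, Pi.add_apply, Pi.smul_apply, smul_eq_mul,
        h2, mul_pow]
      ring
    rw [hexp, h, herm_swap v w]
    linear_combination (K4_four (herm u v * herm w v ^ 2)).2.1⟩

theorem trans_mulVec (v : Fin 6 → K4) (h : herm v v = 0) (x : Fin 6 → K4) :
    Matrix.mulVec (matOf (trans v h)) x = x + herm x v • v := tMat_mulVec v x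

theorem center_le_ker : Subgroup.center SU6 ≤ σ.ker := by
  intro z hz
  rw [MonoidHom.mem_ker]
  apply Equiv.ext
  intro i
  set v := pv i.1 with hv
  obtain ⟨k, hk⟩ : ∃ k, v k ≠ 0 := by
    by_contra hcon
    push Not at hcon
    exact pv_ne i (funext hcon)
  have hcomm := congrArg (fun A : SU6 => Matrix.mulVec (matOf A) (Pi.single k 1))
    (Subgroup.mem_center_iff.1 hz (trans v (pv_iso i)))
  simp only [matOf, Subgroup.coe_mul, Matrix.SpecialLinearGroup.coe_mul,
    ← Matrix.mulVec_mulVec] at hcomm
  change Matrix.mulVec (matOf (trans v (pv_iso i))) (Matrix.mulVec (matOf z) (Pi.single k 1)) =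
    Matrix.mulVec (matOf z) (Matrix.mulVec (matOf (trans v (pv_iso i))) (Pi.single k 1)) at hcomm
  rw [trans_mulVec, trans_mulVec, Matrix.mulVec_add, Matrix.mulVec_smul] at hcomm
  have he : herm (Pi.single k 1) v = v k ^ 2 := by
    simp [herm, Cfsg.hermForm, Pi.single_apply]
  rw [he] at hcomm
  have hcz := add_left_cancel hcomm
  have hk2 : v k ^ 2 ≠ 0 := pow_ne_zero _ hk
  have hzv : Matrix.mulVec (matOf z) v =
      ((v k ^ 2)⁻¹ * herm (Matrix.mulVec (matOf z) (Pi.single k 1)) v) • v := by
    rw [mul_smul, hcz, smul_smul, inv_mul_cancel₀ hk2, one_smul]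
  refine act_eq z i i _ ?_ hzv.symm
  intro h0
  apply image_ne z i
  rw [← hv, hzv, h0, zero_smul]

/-- The action of the projective group. -/
noncomputable def σbar : Cfsg.PSU 6 K4 2 →* Equiv.Perm (Fin 693) :=
  QuotientGroup.lift _ σ center_le_ker

/-- A transvection moves the points as the table says. -/
noncomputable def transAt (g : ℕ) (i : ℕ) : Bool :=
  force (roots.getD g 0) fun r => Nat.beq
    (ptV (pv i + herm (pv i) (vec r) • vec r)) (get32 table (i * 9 + (g + 1)))

theorem trans_ok : allBelow 8 (fun g => decide (herm (vec (roots.getD g 0)) (vec (roots.getD g 0)) = 0) &&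
    allBelow 693 (transAt g)) = true := by decide +kernel

theorem exists_gen (g : ℕ) (hg : g < 8) : ∃ x : Cfsg.PSU 6 K4 2,
    ∀ i : Fin 693, (σbar x i).1 = get32 table (i.1 * 9 + (g + 1)) := by
  have h := allBelow_iff.1 trans_ok g hg
  simp only [Bool.and_eq_true, decide_eq_true_eq] at h
  refine ⟨QuotientGroup.mk (trans _ h.1), fun i => ?_⟩
  have h' := allBelow_iff.1 h.2 i.1 i.2
  simp only [transAt, force_eq, Nat.beq_eq] at h'
  change ptV (Matrix.mulVec (matOf (trans _ h.1)) (pv i.1)) = _
  rw [trans_mulVec]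
  exact h'

end Cfsg.Agent.Lib.CosetEnum.U62
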