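import Cfsg.Agent.Lib.CosetEnum.Simple
import Cfsg.Agent.Lib.CosetEnum.Ident
import Cfsg.Agent.Lib.CosetEnum.U62.Unitary
import Cfsg.Agent.Lib.CosetEnum.U62Slp
import Cfsg.Agent.Lib.CosetEnum.Fi22x3510.Orbits
import Cfsg.Agent.Lib.CosetEnum.Fi22Slp
import Cfsg.Agent.S1696
import Cfsg.Agent.S0280
import Cfsg.Agent.S0283
import Cfsg.Prelude.Def_SporadicB

/-! The point stabiliser of index 3510 in the presented Fi22 modulo its centre is PSU(6, 2). -/

set_option autoImplicit false
set_option maxRecDepth 20000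
set_option Elab.async false

namespace Cfsg.Agent.Lib.CosetEnum.U62

open Cfsg.Agent.Lib.CosetEnum Cfsg.Agent.Lib.G24

/-- The presented Fi22. -/
abbrev G22 : Type := PresentedGroup Fi22x3510.pres

/-- The point stabiliser. -/
noncomputable abbrev H : Subgroup G22 :=
  subOf Fi22x3510.letters Fi22x3510.pres Fi22x3510.subWords

/-- The generators of the point stabiliser as words. -/
noncomputable def hWord (g : ℕ) : List ℕ := Fi22x3510.subWords.getD g []

/-- The generators of the point stabiliser. -/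
noncomputable def gen (g : ℕ) : H :=
  if h : g < 9 then ⟨((hWord g).map (Fi22x3510.letters.phi _)).prod,
    Subgroup.subset_closure ⟨_, by
      rw [hWord, List.getD_eq_getElem _ _ (show g < Fi22x3510.subWords.length from h)]
      exact List.getElem_mem _, rfl⟩⟩
  else 1

theorem gen_closure : Subgroup.closure {x : H | ∃ g < 9, gen g = x} = ⊤ := by
  rw [eq_top_iff]
  rintro ⟨x, hx⟩ -
  induction hx using Subgroup.closure_induction with
  | mem x hx =>
    obtain ⟨l, hl, rfl⟩ := hx
    obtain ⟨g, hg, rfl⟩ := List.mem_iff_getElem.1 hl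
    have hg' : g < 9 := hg
    refine Subgroup.subset_closure ⟨g, hg', Subtype.ext ?_⟩
    simp only [gen, dif_pos hg', hWord, List.getD_eq_getElem _ _ hg]
  | one => exact Subgroup.one_mem _
  | mul a b _ _ ha hb => exact Subgroup.mul_mem _ ha hb
  | inv a _ ha => exact Subgroup.inv_mem _ ha

/-- A check of the orbit and of the table on it. -/
noncomputable def orbAt (m : ℕ) : Bool :=
  force (get32 Fi22x3510.orbPts2 m) fun q => Nat.blt q 3510 &&
    Nat.beq (get32 Fi22x3510.orbPos2 q) m && allBelow 9 fun g =>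
      Nat.beq (get32 Fi22x3510.orbPos2 (scan Fi22x3510.letters.K Fi22x3510.table (hWord g) q))
        (get32 table (m * 9 + g))

theorem orb_ok : allBelow 693 orbAt = true := by decide +kernel

theorem pos_lt : allBelow 3510 (fun i => Nat.blt (get32 Fi22x3510.orbPos2 i) 693) = true := by
  decide +kernel

theorem hWord_lt : ∀ g < 9, ∀ x ∈ hWord g, x < Fi22x3510.letters.K := by decide +kernel

theorem inv_ok : allBelow 693 (fun m => allBelow 9 fun g =>
    Nat.beq (get32 table (get32 table (m * 9 + g) * 9 + g)) m && Nat.blt (get32 table (m * 9 + g)) 693)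
    = true := by decide +kernel

theorem central_ok : allBelow 693 (fun m => Nat.beq (get32 table (m * 9)) m) = true := by
  decide +kernel

theorem card_psu : Nat.card (Cfsg.PSU 6 K4 2) = 9196830720 := by
  have h := Cfsg.Agent.S0280.result (F := K4) (q := 2) (by rw [K4.card_eq]; rfl) 6 (by omega)
  norm_num [Finset.prod_range_succ] at h
  omega

theorem psu_simple : IsSimpleGroup (Cfsg.PSU 6 K4 2) :=
  Cfsg.Agent.S0283.result (F := K4) (q := 2) (by rw [K4.card_eq]; rfl) 6 (by omega) (by omega)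

theorem main : ∃ (ρ : G22 →* Equiv.Perm (Fin 3510)) (ρH : H →* Equiv.Perm (Fin 693)),
    (∀ g < Fi22x3510.letters.K, ∀ i : Fin 3510,
      ((ρ (Fi22x3510.letters.phi _ g))⁻¹ i).1 =
        get32 Fi22x3510.table (i.1 * Fi22x3510.letters.K + g)) ∧
    Function.Injective ρ ∧ Nat.card H = 18393661440 ∧ Nat.card ρH.range = 9196830720 ∧
    Nonempty (ρH.range ≃* Cfsg.PSU 6 K4 2) ∧ ρH (gen 0) = 1 := by
  obtain ⟨ρ, hρ, hst, htr⟩ := Fi22x3510.enum.action
  have hG : Nat.card G22 = 64561751654400 := Cfsg.Agent.S1696.result.2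
  haveI : Finite G22 := Nat.finite_of_card_ne_zero (by rw [hG]; omega)
  have hinj : Function.Injective ρ :=
    injective_of_card ρ ⟨by rw [hG]; omega, hG.le⟩ (Fi22Slp.card_ge ρ _ hρ)
  have hH : Nat.card H = 18393661440 := by
    have h := H.card_mul_index
    rw [show H.index = 3510 from Fi22x3510.enum.index, hG] at h
    omega
  haveI : Finite H := Nat.finite_of_card_ne_zero (by rw [hH]; omega)
  have horb : ∀ m : Fin 693, ∃ hq : get32 Fi22x3510.orbPts2 m.1 < 3510,
      get32 Fi22x3510.orbPos2 (get32 Fi22x3510.orbPts2 m.1) = m.1 ∧ ∀ g < 9,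
        get32 Fi22x3510.orbPos2 (scan Fi22x3510.letters.K Fi22x3510.table (hWord g)
          (get32 Fi22x3510.orbPts2 m.1)) = get32 table (m.1 * 9 + g) := by
    intro m
    have h := allBelow_iff.1 orb_ok m.1 m.2
    simp only [orbAt, force_eq, Bool.and_eq_true, Nat.blt_eq, Nat.beq_eq] at h
    exact ⟨h.1.1, h.1.2, fun g hg => Nat.eq_of_beq_eq_true (allBelow_iff.1 h.2 g hg)⟩
  let f : Fin 693 → Fin 3510 := fun m => ⟨_, (horb m).1⟩
  let p : Fin 3510 → Fin 693 := fun i => ⟨get32 Fi22x3510.orbPos2 i.1, by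
    have := allBelow_iff.1 pos_lt i.1 i.2
    simpa using this⟩
  have hpf : ∀ m, p (f m) = m := fun m => Fin.ext (horb m).2.1
  obtain ⟨-, hmem, hreach⟩ := Fi22x3510.orb2_spec ρ hρ
  have hfp : ∀ (x : H) (m : Fin 693), f (p (ρ x.1 (f m))) = ρ x.1 (f m) := by
    intro x m
    obtain ⟨a, ha, ha'⟩ := hreach m.1 m.2 (f m) rfl
    exact Fin.ext (hmem _ ⟨x.1 * a, mul_mem x.2 ha, by rw [map_mul, Equiv.Perm.mul_apply, ha']⟩)
  let ρH : H →* Equiv.Perm (Fin 693) :=
    { toFun := fun x =>
        { toFun := fun m => p (ρ x.1 (f m))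
          invFun := fun m => p (ρ (x⁻¹ : H).1 (f m))
          left_inv := fun m => by
            change p (ρ (x⁻¹ : H).1 (f (p (ρ x.1 (f m))))) = m
            rw [hfp, ← Equiv.Perm.mul_apply, ← map_mul, ← Subgroup.coe_mul, inv_mul_cancel]
            simp [hpf]
          right_inv := fun m => by
            change p (ρ x.1 (f (p (ρ (x⁻¹ : H).1 (f m))))) = m
            rw [hfp, ← Equiv.Perm.mul_apply, ← map_mul, ← Subgroup.coe_mul, mul_inv_cancel]
            simp [hpf] }
      map_one' := by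
        apply Equiv.ext
        intro m
        change p (ρ (1 : H).1 (f m)) = m
        simp [hpf]
      map_mul' := fun a b => by
        apply Equiv.ext
        intro m
        change p (ρ (a * b : H).1 (f m)) = p (ρ a.1 (f (p (ρ b.1 (f m)))))
        rw [hfp, ← Equiv.Perm.mul_apply, ← map_mul]
        rfl }
  have hgen : ∀ g < 9, ∀ m : Fin 693, ((ρH (gen g))⁻¹ m).1 = get32 table (m.1 * 9 + g) := by
    intro g hg m
    rw [← map_inv]
    change (p (ρ ((gen g)⁻¹ : H).1 (f m))).1 = _
    rw [← (horb m).2.2 g hg]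
    change get32 Fi22x3510.orbPos2 _ = _
    congr 1
    simp only [gen, dif_pos hg, Subgroup.coe_inv, map_inv]
    exact rho_scan Fi22x3510.letters _ ρ hρ _ (hWord_lt g hg) (f m)
  have hgen' : ∀ g < 9, ∀ m : Fin 693, (ρH (gen g) m).1 = get32 table (m.1 * 9 + g) := by
    intro g hg m
    have h1 := allBelow_iff.1 (allBelow_iff.1 inv_ok m.1 m.2) g hg
    simp only [Bool.and_eq_true, Nat.beq_eq, Nat.blt_eq] at h1
    have h2 : (ρH (gen g))⁻¹ ⟨_, h1.2⟩ = m := Fin.ext ((hgen g hg _).trans h1.1)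
    have h3 := congrArg (ρH (gen g)) h2
    rw [Equiv.Perm.inv_def, Equiv.apply_symm_apply] at h3
    exact congrArg Fin.val h3.symm
  have hz : ρH (gen 0) = 1 := by
    apply Equiv.ext
    intro m
    exact Fin.ext ((hgen' 0 (by omega) m).trans
      (Nat.eq_of_beq_eq_true (allBelow_iff.1 central_ok m.1 m.2)))
  have hsub : ρH.range ≤ σbar.range := by
    rw [MonoidHom.range_eq_map, ← gen_closure, MonoidHom.map_closure, Subgroup.closure_le]
    rintro _ ⟨_, ⟨g, hg, rfl⟩, rfl⟩
    rcases Nat.eq_zero_or_pos g with rfl | hg0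
    · rw [hz]; exact one_mem _
    · obtain ⟨x, hx⟩ := exists_gen (g - 1) (by omega)
      refine ⟨x, Equiv.ext fun m => Fin.ext ?_⟩
      rw [hx m, hgen' g hg m, Nat.sub_add_cancel hg0]
  have hge : 9196830720 ≤ Nat.card ρH.range := U62Slp.card_ge ρH gen hgen
  have hR : Nat.card σbar.range ≤ 9196830720 := card_psu ▸
    haveI : Finite (Cfsg.PSU 6 K4 2) := Nat.finite_of_card_ne_zero (by rw [card_psu]; omega)
    Nat.card_le_card_of_surjective σbar.rangeRestrict σbar.rangeRestrict_surjective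
  have heq : ρH.range = σbar.range := Subgroup.eq_of_le_of_card_ge hsub (hR.trans hge)
  have hσ : Function.Injective σbar :=
    injective_of_card σbar ⟨by rw [card_psu]; omega, card_psu.le⟩ (heq ▸ hge)
  exact ⟨ρ, ρH, hρ, hinj, hH, le_antisymm (heq ▸ hR) hge,
    ⟨(MulEquiv.subgroupCongr heq).trans (MonoidHom.ofInjective hσ).symm⟩, hz⟩

/-- Relations checked on the action on 3510 cosets. -/
noncomputable def relWord (l : List ℕ) : List ℕ := (l.map hWord).flatten

theorem relWords_fix : allBelow 3510 (fun i =>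
    Nat.beq (scan Fi22x3510.letters.K Fi22x3510.table (relWord oddWord) i) i &&
    Nat.beq (scan Fi22x3510.letters.K Fi22x3510.table (relWord (0 :: evenWord)) i) i &&
    (allBelow 9 fun g => Nat.beq (scan Fi22x3510.letters.K Fi22x3510.table (relWord [g, g]) i) i) &&
    List.rec (motive := fun _ => Bool) true (fun q _ ih => Nat.beq
      (scan Fi22x3510.letters.K Fi22x3510.table (relWord [q.1, q.2, q.1, q.2, q.1, q.2]) i) i && ih)
      [(1, 2), (2, 3), (3, 4), (4, 5), (2, 6), (6, 7), (7, 8)]) = true := by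
  decide +kernel

theorem words_shape : (∀ g ∈ oddWord, 1 ≤ g ∧ g < 9) ∧ oddWord.length % 2 = 1 ∧
    (∀ g ∈ evenWord, 1 ≤ g ∧ g < 9) ∧ evenWord.length % 2 = 0 := by
  decide +kernel

/-- A product of generators is trivial when it fixes all 3510 points. -/
theorem prod_gen_eq_one (ρ : G22 →* Equiv.Perm (Fin 3510))
    (hρ : ∀ g < Fi22x3510.letters.K, ∀ i : Fin 3510,
      ((ρ (Fi22x3510.letters.phi _ g))⁻¹ i).1 =
        get32 Fi22x3510.table (i.1 * Fi22x3510.letters.K + g))
    (hinj : Function.Injective ρ) (l : List ℕ) (hl : ∀ g ∈ l, g < 9)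
    (h : ∀ i < 3510, scan Fi22x3510.letters.K Fi22x3510.table (relWord l) i = i) :
    (l.map gen).prod = 1 := by
  have hlt : ∀ g ∈ relWord l, g < Fi22x3510.letters.K := by
    intro g hg
    obtain ⟨w, hw, hgw⟩ := List.mem_flatten.1 hg
    obtain ⟨y, hy, rfl⟩ := List.mem_map.1 hw
    exact hWord_lt y (hl y hy) g hgw
  have hval : ((l.map gen).prod : H).1 = ((relWord l).map (Fi22x3510.letters.phi _)).prod := by
    clear h hlt
    induction l with
    | nil => rfl
    | cons y l ih =>
      rw [List.map_cons, List.prod_cons, Subgroup.coe_mul, ih fun g hg => hl g (List.mem_cons_of_mem _ hg),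
        relWord, relWord]
      simp only [List.map_cons, List.flatten_cons, List.map_append, List.prod_append]
      simp only [gen, dif_pos (hl y List.mem_cons_self)]
  apply Subtype.ext
  rw [hval, Subgroup.coe_one]
  apply hinj
  rw [map_one, ← inv_eq_one]
  apply Equiv.ext
  intro i
  apply Fin.ext
  rw [rho_scan Fi22x3510.letters _ ρ hρ _ hlt]
  exact h i.1 i.2

theorem no_hom_two {A : Type*} [CommGroup A] (ρ : G22 →* Equiv.Perm (Fin 3510))
    (hρ : ∀ g < Fi22x3510.letters.K, ∀ i : Fin 3510,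
      ((ρ (Fi22x3510.letters.phi _ g))⁻¹ i).1 =
        get32 Fi22x3510.table (i.1 * Fi22x3510.letters.K + g))
    (hinj : Function.Injective ρ) (χ : H →* A) : ∀ x, χ x = 1 := by
  have hfix := allBelow_iff.1 relWords_fix
  simp only [Bool.and_eq_true, Nat.beq_eq] at hfix
  obtain ⟨h1, h1', h2, h2'⟩ := words_shape
  let q : ℕ → A := fun g => χ (gen g)
  have hq : ∀ l : List ℕ, (∀ g ∈ l, g < 9) →
      (∀ i < 3510, scan Fi22x3510.letters.K Fi22x3510.table (relWord l) i = i) →
      (l.map q).prod = 1 := by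
    intro l hl h
    have := congrArg χ (prod_gen_eq_one ρ hρ hinj l hl h)
    rw [map_one, map_list_prod, List.map_map] at this
    exact this
  have hsq : ∀ g < 9, q g * q g = 1 := fun g hg => by
    simpa using hq [g, g] (by simp; omega)
      (fun i hi => Nat.eq_of_beq_eq_true (allBelow_iff.1 (hfix i hi).1.2 g hg))
  have hbr : ∀ x y, (x, y) ∈ [(1, 2), (2, 3), (3, 4), (4, 5), (2, 6), (6, 7), (7, 8)] →
      x < 9 → y < 9 → q x = q y := by
    intro x y hm hx hy
    refine braid_abelian (hsq x hx) (hsq y hy) ?_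
    have h := hq [x, y, x, y, x, y] (by simp; omega) (fun i hi => by
      have := (hfix i hi).2
      simp only [List.mem_cons, List.not_mem_nil, or_false, Prod.mk.injEq] at hm
      simp only [Bool.and_eq_true, Nat.beq_eq, and_true] at this
      obtain ⟨a1, a2, a3, a4, a5, a6, a7⟩ := this
      rcases hm with h | h | h | h | h | h | h <;> obtain ⟨rfl, rfl⟩ := h <;> assumption)
    simpa [pow_succ, mul_assoc] using h
  have e2 : q 1 = q 2 := hbr 1 2 (by simp) (by omega) (by omega)
  have e3 : q 2 = q 3 := hbr 2 3 (by simp) (by omega) (by omega)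
  have e4 : q 3 = q 4 := hbr 3 4 (by simp) (by omega) (by omega)
  have e5 : q 4 = q 5 := hbr 4 5 (by simp) (by omega) (by omega)
  have e6 : q 2 = q 6 := hbr 2 6 (by simp) (by omega) (by omega)
  have e7 : q 6 = q 7 := hbr 6 7 (by simp) (by omega) (by omega)
  have e8 : q 7 = q 8 := hbr 7 8 (by simp) (by omega) (by omega)
  have hall : ∀ g, 1 ≤ g → g < 9 → q g = q 1 := by
    intro g hg1 hg2
    interval_cases g <;>
      first | rfl | simp only [e2, e3, ← e4, ← e5, ← e6, ← e7, ← e8]
  have hodd := hq oddWord (fun g hg => (h1 g hg).2) fun i hi => (hfix i hi).1.1.1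
  rw [List.map_congr_left (g := fun _ => q 1) (fun g hg => hall g (h1 g hg).1 (h1 g hg).2),
    List.map_const', List.prod_replicate] at hodd
  obtain ⟨k, hk⟩ : ∃ k, oddWord.length = 2 * k + 1 := ⟨oddWord.length / 2, by omega⟩
  rw [hk, pow_succ, pow_mul, sq, hsq 1 (by omega), one_pow, one_mul] at hodd
  have hev := hq (0 :: evenWord) (by
      intro g hg
      rcases List.mem_cons.1 hg with rfl | hg
      · omega
      · exact (h2 g hg).2) fun i hi => (hfix i hi).1.1.2
  rw [List.map_cons, List.prod_cons,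
    List.map_congr_left (g := fun _ => q 1) (fun g hg => hall g (h2 g hg).1 (h2 g hg).2),
    List.map_const', List.prod_replicate, hodd, one_pow, mul_one] at hev
  intro x
  have hχ : χ = 1 := by
    apply MonoidHom.eq_of_eqOn_dense gen_closure
    rintro _ ⟨g, hg, rfl⟩
    rcases Nat.eq_zero_or_pos g with rfl | hg0
    · exact hev
    · exact (hall g hg0 hg).trans hodd
  rw [hχ]; rfl

theorem result_iso : Cfsg.IsNonsplitDoubleCover H (Cfsg.PSU 6 K4 2) := by
  obtain ⟨ρ, ρH, hρ, hinj, hH, hcard, ⟨eU⟩, -⟩ := main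
  haveI : Finite H := Nat.finite_of_card_ne_zero (by rw [hH]; omega)
  have hk : Nat.card ρH.ker = 2 := by
    have h := ρH.ker.card_mul_index
    rw [Subgroup.index_ker, hcard, hH] at h
    omega
  have hkc : ρH.ker ≤ Subgroup.center H := by
    intro k hk'
    rw [Subgroup.mem_center_iff]
    intro g
    by_cases h1 : k = 1
    · simp [h1]
    have hconj : g * k * g⁻¹ ∈ ρH.ker := Subgroup.Normal.conj_mem inferInstance k hk' g
    obtain ⟨a, b, hab, huniv⟩ := Nat.card_eq_two_iff.1 hk
    have e1 : (1 : ρH.ker) ∈ ({a, b} : Set ρH.ker) := huniv ▸ Set.mem_univ _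
    have e2 : (⟨k, hk'⟩ : ρH.ker) ∈ ({a, b} : Set ρH.ker) := huniv ▸ Set.mem_univ _
    have e3 : (⟨_, hconj⟩ : ρH.ker) ∈ ({a, b} : Set ρH.ker) := huniv ▸ Set.mem_univ _
    have hne : (1 : ρH.ker) ≠ ⟨k, hk'⟩ := fun h => h1 (congrArg Subtype.val h).symm
    have hne' : (1 : ρH.ker) ≠ ⟨_, hconj⟩ := fun h => h1 (conj_eq_one_iff.1 (congrArg Subtype.val h).symm)
    simp only [Set.mem_insert_iff, Set.mem_singleton_iff] at e1 e2 e3
    have heq : (⟨_, hconj⟩ : ρH.ker) = ⟨k, hk'⟩ := by
      rcases e1 with e1 | e1 <;> rcases e2 with e2 | e2 <;> rcases e3 with e3 | e3 <;> simp_all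
    have h' : g * k * g⁻¹ = k := congrArg Subtype.val heq
    calc g * k = g * k * g⁻¹ * g := by group
      _ = k * g := by rw [h']
  have hsimple := psu_simple
  have hcenter : Subgroup.center H = ρH.ker := by
    refine le_antisymm ?_ hkc
    intro c hc
    rw [MonoidHom.mem_ker]
    by_contra hne
    have hyc : eU (ρH.rangeRestrict c) ∈ Subgroup.center (Cfsg.PSU 6 K4 2) := by
      rw [Subgroup.mem_center_iff]
      intro u
      obtain ⟨v, rfl⟩ := eU.surjective u
      obtain ⟨v, rfl⟩ := ρH.rangeRestrict_surjective v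
      rw [← map_mul, ← map_mul, ← map_mul, ← map_mul, Subgroup.mem_center_iff.1 hc v]
    rcases (Subgroup.center (Cfsg.PSU 6 K4 2)).normal_of_characteristic.eq_bot_or_eq_top with h | h
    · rw [h, Subgroup.mem_bot, MulEquiv.map_eq_one_iff] at hyc
      exact hne (congrArg Subtype.val hyc)
    · haveI : IsMulCommutative (Cfsg.PSU 6 K4 2) :=
        ⟨⟨fun a b => (Subgroup.mem_center_iff.1 (h ▸ Subgroup.mem_top b : b ∈ _) a)⟩⟩
      letI : CommGroup (Cfsg.PSU 6 K4 2) := { mul_comm := mul_comm' }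
      haveI : Finite (Cfsg.PSU 6 K4 2) := Nat.finite_of_card_ne_zero (by rw [card_psu]; omega)
      have hp := IsSimpleGroup.prime_card (α := Cfsg.PSU 6 K4 2)
      rw [card_psu] at hp
      exact absurd hp (by norm_num)
  refine ⟨hcenter ▸ hk, ⟨(QuotientGroup.quotientMulEquivOfEq hcenter).trans
    ((QuotientGroup.quotientKerEquivRange ρH).trans eU)⟩, ?_⟩
  intro L hL
  have hc2 : Nat.card (Subgroup.center H) = 2 := hcenter ▸ hk
  have hidx : L.index = 2 := by rw [hL.index_eq_card, hc2]
  haveI hLn : L.Normal := Subgroup.normal_of_index_eq_two hidx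
  haveI : Fact (Nat.Prime 2) := ⟨Nat.prime_two⟩
  haveI : IsCyclic (H ⧸ L) := isCyclic_of_prime_card (p := 2) hidx
  letI : CommGroup (H ⧸ L) := IsCyclic.commGroup
  have htriv := no_hom_two (A := H ⧸ L) ρ hρ hinj (QuotientGroup.mk' L)
  have : L = ⊤ := by
    rw [eq_top_iff]
    intro x _
    exact (QuotientGroup.eq_one_iff x).1 (htriv x)
  rw [this, Subgroup.index_top] at hidx
  omega

end Cfsg.Agent.Lib.CosetEnum.U62
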